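import Cfsg.Agent.H754.GrpAlp

/-!
# Generation of the fusion of a finite group by the centralizer of a central involution (helper768, for S5314)

`Rel T R`: `R Q g` is a relation between subgroups `Q ≤ T` and elements `g` with `gQg⁻¹ ≤ T`, closed under restriction,
composition, inversion and multiplication by elements centralizing `Q`.

`gen_of_central`: if `z` is central in the Sylow subgroup `T`, `R` contains all fusion in `C(z)` and every conjugate `t`
of `z` in `T` is moved to `z` by a map of `R` defined on `C_T(t)`, then `R` contains all the fusion of `L` on `T`.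
-/

set_option autoImplicit false

namespace Cfsg.Agent.H768.SF

open Cfsg.Agent.H754

variable {L : Type*} [Group L]

/-- closed relations between subgroups `Q ≤ T` and elements `g` with `gQg⁻¹ ≤ T` -/
structure Rel (T : Subgroup L) (R : Subgroup L → L → Prop) : Prop where
  res : ∀ Q Q' g, Q ≤ T → cj Q g ≤ T → Q' ≤ Q → R Q g → R Q' g
  comp : ∀ Q g h, Q ≤ T → cj Q g ≤ T → cj Q (h * g) ≤ T → R Q g → R (cj Q g) h → R Q (h * g)
  inv : ∀ Q g, Q ≤ T → cj Q g ≤ T → R Q g → R (cj Q g) g⁻¹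
  cen : ∀ Q g c, Q ≤ T → cj Q g ≤ T → (∀ q ∈ Q, c * q = q * c) → R Q g → R Q (g * c)

theorem isPGroup_zpowers {M : Type*} [Group M] {x : M} (hx : x * x = 1) : IsPGroup 2 (Subgroup.zpowers x) := by
  intro y
  refine ⟨1, ?_⟩
  obtain ⟨n, hn⟩ := y.2
  apply Subtype.ext
  have h1 : x ^ 2 = 1 := by rw [pow_two, hx]
  rw [SubgroupClass.coe_pow, ← hn, pow_one, Subgroup.coe_one]
  change (x ^ n) ^ 2 = 1
  rw [← zpow_natCast, ← zpow_mul, mul_comm, zpow_mul, zpow_natCast, h1, one_zpow]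

theorem cj_congr {Q : Subgroup L} {g h : L} (H : ∀ q ∈ Q, g * q * g⁻¹ = h * q * h⁻¹) : cj Q g = cj Q h := by
  ext w
  rw [mem_cj, mem_cj]
  constructor
  · rintro ⟨v, hv, rfl⟩
    exact ⟨v, hv, (H v hv).symm⟩
  · rintro ⟨v, hv, rfl⟩
    exact ⟨v, hv, H v hv⟩

theorem cj_cen {Q : Subgroup L} (g : L) {c : L} (hc : ∀ q ∈ Q, c * q = q * c) : cj Q (g * c) = cj Q g := by
  apply cj_congr
  intro q hq
  have := hc q hq
  rw [mul_inv_rev, mul_assoc g c q, this]
  group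

namespace Rel

variable {T : Subgroup L} {R : Subgroup L → L → Prop} (hR : Rel T R)

include hR

/-- `R Q g` from `R Q (h * g)` and `R (cj Q g) h` -/
theorem of_left {Q : Subgroup L} {g h : L} (hQ : Q ≤ T) (hg : cj Q g ≤ T) (hhg : cj Q (h * g) ≤ T)
    (h1 : R Q (h * g)) (h2 : R (cj Q g) h) : R Q g := by
  have h3 := hR.inv (cj Q g) h hg (by rw [cj_mul]; exact hhg) h2
  rw [cj_mul] at h3
  have h4 := hR.comp Q (h * g) h⁻¹ hQ hhg (by rw [inv_mul_cancel_left]; exact hg) h1 h3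
  rwa [inv_mul_cancel_left] at h4

/-- the map defined by `g` may be changed by an element centralizing the image -/
theorem cenL {Q : Subgroup L} {g c : L} (hQ : Q ≤ T) (hg : cj Q g ≤ T) (hc : ∀ q ∈ cj Q g, c * q = q * c)
    (h : R Q (c * g)) : R Q g := by
  have h1 : c * g = g * (g⁻¹ * c * g) := by group
  have h2 : ∀ q ∈ Q, (g⁻¹ * c⁻¹ * g) * q = q * (g⁻¹ * c⁻¹ * g) := by
    intro q hq
    have h3 := hc (g * q * g⁻¹) (conj_mem_cj hq)
    have h4 : c⁻¹ * (g * q * g⁻¹) = g * q * g⁻¹ * c⁻¹ := by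
      calc c⁻¹ * (g * q * g⁻¹) = c⁻¹ * (g * q * g⁻¹ * c) * c⁻¹ := by group
        _ = g * q * g⁻¹ * c⁻¹ := by rw [← h3]; group
    calc (g⁻¹ * c⁻¹ * g) * q = g⁻¹ * (c⁻¹ * (g * q * g⁻¹)) * g := by group
      _ = g⁻¹ * (g * q * g⁻¹ * c⁻¹) * g := by rw [h4]
      _ = q * (g⁻¹ * c⁻¹ * g) := by group
  have h5 : cj Q (c * g) = cj Q g := by
    apply cj_congr
    intro q hq
    have h3 := hc (g * q * g⁻¹) (conj_mem_cj hq)
    calc c * g * q * (c * g)⁻¹ = c * (g * q * g⁻¹) * c⁻¹ := by group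
      _ = g * q * g⁻¹ := by rw [h3]; group
  have h6 := hR.cen Q (c * g) (g⁻¹ * c⁻¹ * g) hQ (by rw [h5]; exact hg) h2 h
  have h7 : c * g * (g⁻¹ * c⁻¹ * g) = g := by group
  rwa [h7] at h6

/-- **Generation by the centralizer of a central involution.** -/
theorem gen_of_central [Finite L] {z : L} (hT : ∀ B : Subgroup L, IsPGroup 2 B → ∃ k : L, cj B k ≤ T)
    (hTp : IsPGroup 2 T) (hz : z * z = 1)
    (hzT : ∀ t ∈ T, t * z = z * t)
    (h1 : ∀ t ∈ T, (∃ g : L, g * t * g⁻¹ = z) → ∃ h : L, h * t * h⁻¹ = z ∧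
      cj (T ⊓ Subgroup.centralizer {t}) h ≤ T ∧ R (T ⊓ Subgroup.centralizer {t}) h)
    (h2 : ∀ Q : Subgroup L, Q ≤ T → ∀ g : L, g * z = z * g → cj Q g ≤ T → R Q g) :
    ∀ Q : Subgroup L, Q ≤ T → ∀ g : L, cj Q g ≤ T → R Q g := by
  -- maps which move `z` into `T`
  have key : ∀ Q : Subgroup L, Q ≤ T → ∀ k : L, cj Q k ≤ T → k * z * k⁻¹ ∈ T → R Q k := by
    intro Q hQ k hk hkz
    obtain ⟨h, hh1, hh2, hh3⟩ := h1 _ hkz ⟨k⁻¹, by group⟩
    have hle : cj Q k ≤ T ⊓ Subgroup.centralizer {k * z * k⁻¹} := by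
      refine le_inf hk ?_
      rw [cj_le_iff]
      intro q hq
      rw [Subgroup.mem_centralizer_singleton_iff]
      have := hzT q (hQ hq)
      calc k * q * k⁻¹ * (k * z * k⁻¹) = k * (q * z) * k⁻¹ := by group
        _ = k * z * k⁻¹ * (k * q * k⁻¹) := by rw [this]; group
    have hhk : h * k * z = z * (h * k) := by
      have : h * (k * z * k⁻¹) * h⁻¹ = z := hh1
      calc h * k * z = h * (k * z * k⁻¹) * h⁻¹ * (h * k) := by group
        _ = z * (h * k) := by rw [this]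
    have hhkT : cj Q (h * k) ≤ T := by
      rw [← cj_mul]
      exact (cj_mono hle h).trans hh2
    refine hR.of_left hQ hk hhkT (h2 Q hQ _ hhk hhkT) ?_
    exact hR.res _ _ h inf_le_left hh2 hle hh3
  intro Q hQ g hg
  -- a Sylow subgroup of the centralizer of `Q` containing `z`
  set C : Subgroup L := Subgroup.centralizer (Q : Set L) with hC
  have hzC : z ∈ C := by
    rw [hC, Subgroup.mem_centralizer_iff]
    intro q hq
    exact hzT q (hQ hq)
  have hz'C : g⁻¹ * z * g ∈ C := by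
    rw [hC, Subgroup.mem_centralizer_iff]
    intro q hq
    have h3 := hzT _ (hg (conj_mem_cj (g := g) hq))
    calc q * (g⁻¹ * z * g) = g⁻¹ * (g * q * g⁻¹ * z) * g := by group
      _ = g⁻¹ * z * g * q := by rw [h3]; group
  have : Fact (Nat.Prime 2) := ⟨Nat.prime_two⟩
  have hz2 : IsPGroup 2 (Subgroup.zpowers (⟨z, hzC⟩ : C)) := isPGroup_zpowers (Subtype.ext hz)
  have hz'2 : IsPGroup 2 (Subgroup.zpowers (⟨g⁻¹ * z * g, hz'C⟩ : C)) := isPGroup_zpowers (by
    apply Subtype.ext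
    change g⁻¹ * z * g * (g⁻¹ * z * g) = 1
    calc g⁻¹ * z * g * (g⁻¹ * z * g) = g⁻¹ * (z * z) * g := by group
      _ = 1 := by rw [hz]; group)
  obtain ⟨S, hS⟩ := hz2.exists_le_sylow
  obtain ⟨S', hS'⟩ := hz'2.exists_le_sylow
  obtain ⟨c, hc⟩ := MulAction.exists_smul_eq C S' S
  have hcz : (c : L) * (g⁻¹ * z * g) * (c : L)⁻¹ ∈ (S : Subgroup C).map C.subtype := by
    refine ⟨c * ⟨g⁻¹ * z * g, hz'C⟩ * c⁻¹, ?_, rfl⟩
    rw [← hc]
    exact ⟨⟨g⁻¹ * z * g, hz'C⟩, hS' (Subgroup.mem_zpowers _), rfl⟩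
  have hzS : z ∈ (S : Subgroup C).map C.subtype := ⟨⟨z, hzC⟩, hS (Subgroup.mem_zpowers _), rfl⟩
  set P : Subgroup L := (S : Subgroup C).map C.subtype with hP
  have hPp : IsPGroup 2 P := S.isPGroup'.map _
  have hPC : P ≤ C := by
    rintro _ ⟨x, _, rfl⟩
    exact x.2
  have hQp : IsPGroup 2 Q := hTp.to_le hQ
  have hQP : IsPGroup 2 (Q ⊔ P : Subgroup L) := by
    refine IsPGroup.to_sup_of_normal_left' hQp hPp ?_
    refine hPC.trans ?_
    rw [hC]
    exact Subgroup.centralizer_le_normalizer _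
  obtain ⟨k, hk⟩ := hT _ hQP
  have hkQ : cj Q k ≤ T := (cj_mono le_sup_left k).trans hk
  have hkz : k * z * k⁻¹ ∈ T := hk (conj_mem_cj (Subgroup.mem_sup_right hzS))
  have hkz' : k * (c * (g⁻¹ * z * g) * (c : L)⁻¹) * k⁻¹ ∈ T := hk (conj_mem_cj (Subgroup.mem_sup_right hcz))
  have hcQ : ∀ q ∈ Q, (c : L) * q = q * c := by
    intro q hq
    exact (Subgroup.mem_centralizer_iff.1 c.2 q hq).symm
  have hcQ' : ∀ q ∈ Q, (c : L)⁻¹ * q = q * (c : L)⁻¹ := by
    intro q hq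
    rw [inv_mul_eq_iff_eq_mul, ← mul_assoc, hcQ q hq, mul_assoc, mul_inv_cancel, mul_one]
  have r1 : R Q k := key Q hQ k hkQ hkz
  have e1 : cj (cj Q g) (k * c * g⁻¹) = cj Q k := by
    rw [cj_mul, inv_mul_cancel_right, cj_cen k hcQ]
  have r2 : R (cj Q g) (k * c * g⁻¹) := by
    refine key _ hg _ (by rw [e1]; exact hkQ) ?_
    have : k * c * g⁻¹ * z * (k * c * g⁻¹)⁻¹ = k * (c * (g⁻¹ * z * g) * (c : L)⁻¹) * k⁻¹ := by group
    rw [this]
    exact hkz'
  -- `k * c = (k c g⁻¹) g`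
  have r3 : R Q (k * c) := hR.cen Q k c hQ hkQ hcQ r1
  refine hR.of_left (h := k * c * g⁻¹) hQ hg ?_ ?_ r2
  · rw [inv_mul_cancel_right, cj_cen k hcQ]; exact hkQ
  · rw [inv_mul_cancel_right]; exact r3

end Rel

end Cfsg.Agent.H768.SF
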